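import Mathlib.RingTheory.HopfAlgebra.Basic
import Mathlib.RingTheory.HopfAlgebra.Convolution
import Mathlib.RingTheory.Kaehler.Basic
import Mathlib.RingTheory.TensorProduct.Free
import Mathlib.LinearAlgebra.Basis.VectorSpace

/-!
The differentials of a commutative Hopf algebra: `Ω = B ⊗ I/I²`.
-/

set_option autoImplicit false
universe u v
open TensorProduct Coalgebra KaehlerDifferential

namespace Groth.Agent.HopfOm57

variable (K : Type u) [Field K] (B : Type v) [CommRing B] [HopfAlgebra K B]

/-- constants plus the square of the augmentation ideal -/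
def constSq : Submodule K B :=
  K ∙ (1 : B) ⊔ ((RingHom.ker (Bialgebra.counitAlgHom K B)) ^ 2).restrictScalars K

theorem proj_mul (x y : B) : (constSq K B).mkQ (x * y) =
    counit (R := K) x • (constSq K B).mkQ y + counit (R := K) y • (constSq K B).mkQ x := by
  rw [← map_smul, ← map_smul, ← map_add]
  refine (Submodule.Quotient.eq _).2 (Submodule.mem_sup.2
    ⟨-((counit (R := K) x * counit (R := K) y) • (1 : B)),
      neg_mem (Submodule.smul_mem _ _ (Submodule.mem_span_singleton_self 1)),
      (x - counit (R := K) x • 1) * (y - counit (R := K) y • 1), ?_, ?_⟩)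
  · show _ ∈ (RingHom.ker (Bialgebra.counitAlgHom K B)) ^ 2
    rw [pow_two]
    exact Ideal.mul_mem_mul (by simp [RingHom.mem_ker]) (by simp [RingHom.mem_ker])
  · simp only [sub_mul, mul_sub, smul_mul_assoc, mul_smul_comm, one_mul, mul_one]
    module

/-- the derivation `b ↦ b₁ ⊗ [b₂]` -/
noncomputable def der : Derivation K B (B ⊗[K] (B ⧸ constSq K B)) :=
  Derivation.mk' ((constSq K B).mkQ.lTensor B ∘ₗ comul) fun a b => by
    have key : ∀ s t : B ⊗[K] B, (constSq K B).mkQ.lTensor B (s * t) =
        TensorProduct.rid K B ((counit (R := K) (A := B)).lTensor B s) • (constSq K B).mkQ.lTensor B t +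
        TensorProduct.rid K B ((counit (R := K) (A := B)).lTensor B t) • (constSq K B).mkQ.lTensor B s := by
      intro s t
      induction s using TensorProduct.induction_on with
      | zero => simp
      | add p q hp hq => simp only [add_mul, map_add, add_smul, smul_add, hp, hq]; abel
      | tmul p q =>
        induction t using TensorProduct.induction_on with
        | zero => simp
        | add s t hs ht => simp only [mul_add, map_add, add_smul, smul_add, hs, ht]; abel
        | tmul c d =>
          simp only [Algebra.TensorProduct.tmul_mul_tmul, LinearMap.lTensor_tmul, proj_mul,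
            TensorProduct.rid_tmul, TensorProduct.tmul_add, TensorProduct.tmul_smul,
            TensorProduct.smul_tmul', smul_eq_mul, smul_mul_assoc, mul_comm c p]
    simp only [LinearMap.comp_apply, Bialgebra.comul_mul]
    rw [key, Coalgebra.lTensor_counit_comul, Coalgebra.lTensor_counit_comul]
    simp

/-- `b ⊗ w ↦ b • w` -/
noncomputable def act : B ⊗[K] Ω[B⁄K] →ₗ[K] Ω[B⁄K] :=
  TensorProduct.lift ((LinearMap.lsmul B (Ω[B⁄K])).restrictScalars₁₂ K K)

/-- the invariant form `b ↦ S b₁ • D b₂` -/
noncomputable def omega : B →ₗ[K] Ω[B⁄K] :=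
  act K B ∘ₗ TensorProduct.map (HopfAlgebra.antipode K : B →ₗ[K] B) (KaehlerDifferential.D K B).toLinearMap ∘ₗ comul

theorem omega_mul (x y : B) :
    omega K B (x * y) = counit (R := K) x • omega K B y + counit (R := K) y • omega K B x := by
  let M := TensorProduct.map (HopfAlgebra.antipode K : B →ₗ[K] B) (KaehlerDifferential.D K B).toLinearMap
  have key : ∀ s t : B ⊗[K] B, act K B (M (s * t)) =
      LinearMap.mul' K B ((HopfAlgebra.antipode K : B →ₗ[K] B).rTensor B s) • act K B (M t) +
      LinearMap.mul' K B ((HopfAlgebra.antipode K : B →ₗ[K] B).rTensor B t) • act K B (M s) := by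
    intro s t
    induction s using TensorProduct.induction_on with
    | zero => simp
    | add p q hp hq => simp only [add_mul, map_add, add_smul, smul_add, hp, hq]; abel
    | tmul p q =>
      induction t using TensorProduct.induction_on with
      | zero => simp
      | add s t hs ht => simp only [mul_add, map_add, add_smul, smul_add, hs, ht]; abel
      | tmul c d =>
        simp only [M, act, Algebra.TensorProduct.tmul_mul_tmul, TensorProduct.map_tmul,
          Derivation.coeFn_coe, Derivation.leibniz, TensorProduct.lift.tmul,
          LinearMap.restrictScalars₁₂_apply_apply, LinearMap.lsmul_apply, LinearMap.rTensor_tmul,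
          LinearMap.mul'_apply, smul_smul, smul_add, HopfAlgebra.antipode_mul_distrib]
        congr 2 <;> ring
  simp only [omega, LinearMap.comp_apply, Bialgebra.comul_mul]
  rw [key, HopfAlgebra.mul_antipode_rTensor_comul_apply, HopfAlgebra.mul_antipode_rTensor_comul_apply,
    algebraMap_smul, algebraMap_smul]

theorem constSq_le_ker : constSq K B ≤ LinearMap.ker (omega K B) := by
  refine sup_le ?_ ?_
  · rw [Submodule.span_singleton_le_iff_mem, LinearMap.mem_ker]
    simp [omega, act, Algebra.TensorProduct.one_def]
  · intro x hx
    rw [Submodule.restrictScalars_mem, pow_two] at hx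
    rw [LinearMap.mem_ker]
    induction hx using Submodule.mul_induction_on' with
    | mem_mul_mem a ha b hb =>
      rw [omega_mul, show counit (R := K) a = 0 from ha, show counit (R := K) b = 0 from hb]
      simp
    | add a _ b _ ha hb => rw [map_add, ha, hb, add_zero]

/-- `b ⊗ [x] ↦ b • ω x` -/
noncomputable def psi : B ⊗[K] (B ⧸ constSq K B) →ₗ[B] Ω[B⁄K] :=
  LinearMap.liftBaseChange B ((constSq K B).liftQ (omega K B) (constSq_le_ker K B))

theorem psi_tmul (b x : B) : psi K B (b ⊗ₜ (constSq K B).mkQ x) = b • omega K B x := by
  simp [psi]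

theorem psi_der (b : B) : psi K B (der K B b) = KaehlerDifferential.D K B b := by
  let M := TensorProduct.map (HopfAlgebra.antipode K : B →ₗ[K] B) (KaehlerDifferential.D K B).toLinearMap
  let Φ : B ⊗[K] (B ⊗[K] B) →ₗ[K] Ω[B⁄K] := act K B ∘ₗ (act K B ∘ₗ M).lTensor B
  have e1 : ∀ t : B ⊗[K] B, psi K B ((constSq K B).mkQ.lTensor B t) = Φ (comul.lTensor B t) := by
    intro t
    induction t using TensorProduct.induction_on with
    | zero => simp
    | add p q hp hq => simp only [map_add, hp, hq]
    | tmul p q =>
      rw [LinearMap.lTensor_tmul, psi_tmul]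
      simp [Φ, M, act, omega]
  have e2 : ∀ t : (B ⊗[K] B) ⊗[K] B, Φ (TensorProduct.assoc K B B B t) =
      act K B (TensorProduct.map (LinearMap.mul' K B ∘ₗ (HopfAlgebra.antipode K : B →ₗ[K] B).lTensor B)
        (KaehlerDifferential.D K B).toLinearMap t) := by
    intro t
    induction t using TensorProduct.induction_on with
    | zero => simp
    | add p q hp hq => simp only [map_add, hp, hq]
    | tmul p q =>
      induction p using TensorProduct.induction_on with
      | zero => simp
      | add p p' hp hp' => simp only [add_tmul, map_add, hp, hp']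
      | tmul p p' => simp [Φ, M, act, smul_smul, mul_comm]
  show psi K B ((constSq K B).mkQ.lTensor B (comul b)) = _
  rw [e1, ← Coalgebra.coassoc_apply, e2, LinearMap.map_rTensor, LinearMap.comp_assoc,
    HopfAlgebra.mul_antipode_lTensor_comul, ← LinearMap.map_rTensor, Coalgebra.rTensor_counit_comul]
  simp [act]

theorem phi_omega (x : B) : (der K B).liftKaehlerDifferential (omega K B x) =
    (1 : B) ⊗ₜ[K] (constSq K B).mkQ x := by
  let π := (constSq K B).mkQ
  let Φ : B ⊗[K] (B ⊗[K] B) →ₗ[K] B ⊗[K] (B ⧸ constSq K B) :=
    TensorProduct.map (LinearMap.mul' K B ∘ₗ (HopfAlgebra.antipode K : B →ₗ[K] B).rTensor B) π ∘ₗ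
      (TensorProduct.assoc K B B B).symm.toLinearMap
  have e1 : ∀ t : B ⊗[K] B, (der K B).liftKaehlerDifferential (act K B (TensorProduct.map
      (HopfAlgebra.antipode K : B →ₗ[K] B) (KaehlerDifferential.D K B).toLinearMap t)) = Φ (comul.lTensor B t) := by
    intro t
    induction t using TensorProduct.induction_on with
    | zero => simp
    | add p q hp hq => simp only [map_add, hp, hq]
    | tmul p q =>
      simp only [act, TensorProduct.map_tmul, TensorProduct.lift.tmul, Derivation.coeFn_coe,
        LinearMap.restrictScalars₁₂_apply_apply, LinearMap.lsmul_apply, map_smul,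
        Derivation.liftKaehlerDifferential_comp_D, LinearMap.lTensor_tmul]
      show _ • π.lTensor B (comul q) = _
      generalize comul (R := K) q = s
      induction s using TensorProduct.induction_on with
      | zero => simp
      | add s s' hs hs' => simp only [map_add, tmul_add, smul_add, hs, hs']
      | tmul s s' => simp [Φ, π, TensorProduct.smul_tmul']
  simp only [omega, LinearMap.comp_apply]
  rw [e1, ← Coalgebra.coassoc_apply]
  simp only [Φ, LinearMap.comp_apply, LinearEquiv.coe_coe, LinearEquiv.symm_apply_apply]
  rw [LinearMap.map_rTensor, LinearMap.comp_assoc, HopfAlgebra.mul_antipode_rTensor_comul,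
    ← LinearMap.map_rTensor, Coalgebra.rTensor_counit_comul]
  simp [π]

theorem free : Module.Free B (Ω[B⁄K]) := by
  refine Module.Free.of_equiv (LinearEquiv.ofLinear (psi K B) (der K B).liftKaehlerDifferential
    (Derivation.liftKaehlerDifferential_unique _ _ (Derivation.ext fun b => ?_)) ?_)
  · simp [psi_der]
  · ext x
    simp only [TensorProduct.AlgebraTensorModule.curry_apply, LinearMap.restrictScalars_self,
      TensorProduct.curry_apply, LinearMap.coe_restrictScalars, LinearMap.comp_apply, LinearMap.id_apply]
    rw [psi_tmul, one_smul, phi_omega]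

end Groth.Agent.HopfOm57
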